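import Mathlib

/-!
# Counting fixed points in a transitive group

`fx g` is the set of fixed points of `g`.  The identity
`n * D + |G| = ∑ f(g)^2 + ∑_{f ≥ 1} (f-1)(n-f)` and Burnside's counts.
-/

set_option autoImplicit false
set_option linter.unusedSectionVars false
set_option linter.style.haveILetI false

open Finset

namespace Cfsg.Agent.DerangeBound

variable {G Ω : Type*} [Group G] [MulAction G Ω] [Fintype G] [Fintype Ω] [DecidableEq Ω]

/-- The fixed points of `g`. -/
def fx (g : G) : Finset Ω := univ.filter fun ω => g • ω = ω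

theorem mem_fx {g : G} {ω : Ω} : ω ∈ fx g ↔ g • ω = ω := by simp [fx]

theorem natCard_fixedBy (g : G) : Nat.card (MulAction.fixedBy Ω g) = (fx (Ω := Ω) g).card := by
  classical
  rw [Nat.card_eq_fintype_card, fx, ← Fintype.card_subtype]
  rfl

theorem fx_one : fx (Ω := Ω) (1 : G) = univ := by
  ext ω; simp [mem_fx]

theorem fx_card_le (g : G) : (fx (Ω := Ω) g).card ≤ Fintype.card Ω := Finset.card_le_univ _

/-- Elements fixing `a`. -/
def stF (a : Ω) : Finset G := univ.filter fun g : G => g • a = a

theorem mem_stF {a : Ω} {g : G} : g ∈ stF a ↔ g • a = a := by simp [stF]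

theorem card_stF (a : Ω) : (stF (G := G) a).card = Nat.card (MulAction.stabilizer G a) := by
  classical
  rw [Nat.card_eq_fintype_card, stF, ← Fintype.card_subtype]
  rfl

/-- Burnside for a subgroup, in finset form. -/
theorem sum_fx_subgroup (S : Subgroup G) (A : Finset G) (hA : ∀ g, g ∈ A ↔ g ∈ S) :
    ∑ g ∈ A, (fx (Ω := Ω) g).card = Nat.card (MulAction.orbitRel.Quotient S Ω) * Nat.card S := by
  classical
  haveI : Fintype (MulAction.orbitRel.Quotient S Ω) := Fintype.ofFinite _
  rw [Finset.sum_subtype A hA fun g => (fx (Ω := Ω) g).card]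
  rw [Nat.card_eq_fintype_card, Nat.card_eq_fintype_card,
    ← MulAction.sum_card_fixedBy_eq_card_orbits_mul_card_group]
  refine Finset.sum_congr rfl fun g _ => ?_
  rw [← natCard_fixedBy (g : G), Nat.card_eq_fintype_card.symm]
  rfl

/-- In a transitive group the fixed point numbers add up to the group order. -/
theorem sum_fx [MulAction.IsPretransitive G Ω] [Nonempty Ω] :
    ∑ g : G, (fx (Ω := Ω) g).card = Fintype.card G := by
  classical
  have h := sum_fx_subgroup (Ω := Ω) (⊤ : Subgroup G) univ (fun g => by simp)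
  have h1 : Nat.card (MulAction.orbitRel.Quotient (⊤ : Subgroup G) Ω) = 1 := by
    rw [Nat.card_eq_one_iff_unique]
    refine ⟨⟨fun x y => ?_⟩, ?_⟩
    · induction x using Quotient.inductionOn'
      rename_i a
      induction y using Quotient.inductionOn'
      rename_i b
      obtain ⟨g, hg⟩ := MulAction.exists_smul_eq G b a
      exact Quotient.sound' ⟨⟨g, trivial⟩, hg⟩
    · exact ⟨Quotient.mk'' (Classical.arbitrary Ω)⟩
  rw [h, h1, one_mul, Subgroup.card_top, Nat.card_eq_fintype_card]

theorem card_stF_mul [MulAction.IsPretransitive G Ω] [Nonempty Ω] (a : Ω) :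
    Fintype.card Ω * (stF (G := G) a).card = Fintype.card G := by
  classical
  have h := MulAction.card_orbit_mul_card_stabilizer_eq_card_group G a
  rw [← h, card_stF, Nat.card_eq_fintype_card]
  congr 1
  have e : MulAction.orbit G a = Set.univ := MulAction.orbit_eq_univ G a
  rw [← Nat.card_eq_fintype_card, ← Nat.card_eq_fintype_card (α := MulAction.orbit G a), e]
  exact (Nat.card_congr (Equiv.Set.univ Ω)).symm

/-- `∑ f(g)^2`, counted over the points. -/
theorem sum_fx_sq :
    ∑ g : G, (fx (Ω := Ω) g).card * (fx (Ω := Ω) g).card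
      = ∑ a : Ω, ∑ g ∈ stF (G := G) a, (fx (Ω := Ω) g).card := by
  simp only [stF, Finset.sum_filter]
  rw [Finset.sum_comm]
  refine Finset.sum_congr rfl fun g _ => ?_
  rw [← Finset.sum_filter]
  simp [fx]

/-- If the group is not doubly transitive, `3|G| ≤ ∑ f(g)^2`. -/
theorem three_mul_le_sum_sq [MulAction.IsPretransitive G Ω] [Nonempty Ω]
    {a b c d : Ω} (hab : a ≠ b) (hcd : c ≠ d) (hno : ∀ g : G, ¬ (g • a = c ∧ g • b = d)) :
    3 * Fintype.card G ≤ ∑ g : G, (fx (Ω := Ω) g).card * (fx (Ω := Ω) g).card := by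
  classical
  rw [sum_fx_sq]
  have key : ∀ x : Ω, 3 * (stF (G := G) x).card ≤ ∑ g ∈ stF (G := G) x, (fx (Ω := Ω) g).card := by
    intro x
    rw [sum_fx_subgroup (MulAction.stabilizer G x) (stF x)
      (fun g => by rw [mem_stF, MulAction.mem_stabilizer_iff]), ← card_stF]
    refine Nat.mul_le_mul_right _ ?_
    obtain ⟨g1, hg1⟩ := MulAction.exists_smul_eq G a x
    obtain ⟨g2, hg2⟩ := MulAction.exists_smul_eq G c x
    have hne1 : g1 • b ≠ x := by
      rw [← hg1]; exact fun e => hab (smul_left_cancel g1 e).symm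
    have hne2 : g2 • d ≠ x := by
      rw [← hg2]; exact fun e => hcd (smul_left_cancel g2 e).symm
    haveI : Fintype (MulAction.orbitRel.Quotient (MulAction.stabilizer G x) Ω) := Fintype.ofFinite _
    rw [Nat.card_eq_fintype_card]
    refine Finset.two_lt_card.mpr ⟨Quotient.mk'' x, mem_univ _, Quotient.mk'' (g1 • b), mem_univ _,
      Quotient.mk'' (g2 • d), mem_univ _, ?_, ?_, ?_⟩
    · intro e
      obtain ⟨s, hs⟩ := Quotient.exact' e
      apply hne1
      have hs' : (s : G) • (g1 • b) = x := hs
      have hsx : (s : G) • x = x := s.2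
      exact smul_left_cancel (s : G) (hs'.trans hsx.symm)
    · intro e
      obtain ⟨s, hs⟩ := Quotient.exact' e
      apply hne2
      have hs' : (s : G) • (g2 • d) = x := hs
      have hsx : (s : G) • x = x := s.2
      exact smul_left_cancel (s : G) (hs'.trans hsx.symm)
    · intro e
      obtain ⟨s, hs⟩ := Quotient.exact' e
      have hs' : (s : G) • (g2 • d) = g1 • b := hs
      have hsx : (s : G) • x = x := s.2
      refine hno (g2⁻¹ * (s : G)⁻¹ * g1) ⟨?_, ?_⟩
      · rw [mul_smul, mul_smul, hg1, inv_smul_eq_iff.mpr hsx.symm, ← hg2, inv_smul_smul]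
      · rw [mul_smul, mul_smul, ← hs', inv_smul_smul, inv_smul_smul]
  calc 3 * Fintype.card G = ∑ _x : Ω, 3 * (stF (G := G) (Classical.arbitrary Ω)).card := by
        rw [Finset.sum_const, Finset.card_univ, smul_eq_mul,
          ← card_stF_mul (G := G) (Classical.arbitrary Ω)]
        ring
    _ = ∑ x : Ω, 3 * (stF (G := G) x).card := by
        refine Finset.sum_congr rfl fun x _ => ?_
        have h1 := card_stF_mul (G := G) (Classical.arbitrary Ω)
        have h2 := card_stF_mul (G := G) x
        rw [← h2] at h1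
        rw [Nat.eq_of_mul_eq_mul_left Fintype.card_pos h1]
    _ ≤ _ := Finset.sum_le_sum fun x _ => key x

/-- The number of derangements. -/
theorem natCard_derangements :
    Nat.card {g : G // ∀ ω : Ω, g • ω ≠ ω}
      = (univ.filter fun g : G => (fx (Ω := Ω) g).card = 0).card := by
  classical
  rw [Nat.card_eq_fintype_card, ← Fintype.card_subtype]
  refine Fintype.card_congr (Equiv.subtypeEquivRight fun g => ?_)
  simp [fx, Finset.filter_eq_empty_iff]

/-- The excess term. -/
noncomputable def excess (G Ω : Type*) [Group G] [MulAction G Ω] [Fintype G] [Fintype Ω]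
    [DecidableEq Ω] : ℕ :=
  ∑ g : G, ((fx (Ω := Ω) g).card - 1) * (Fintype.card Ω - (fx (Ω := Ω) g).card)

/-- The fundamental identity. -/
theorem card_mul_derangements [MulAction.IsPretransitive G Ω] [Nonempty Ω] :
    Fintype.card Ω * Nat.card {g : G // ∀ ω : Ω, g • ω ≠ ω} + Fintype.card G
      = (∑ g : G, (fx (Ω := Ω) g).card * (fx (Ω := Ω) g).card) + excess G Ω := by
  classical
  rw [natCard_derangements, excess, ← Finset.sum_add_distrib]
  have hsum := sum_fx (G := G) (Ω := Ω)
  have e1 : Fintype.card Ω * (univ.filter fun g : G => (fx (Ω := Ω) g).card = 0).card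
      = ∑ g : G, if (fx (Ω := Ω) g).card = 0 then Fintype.card Ω else 0 := by
    rw [← Finset.sum_filter, Finset.sum_const, smul_eq_mul, mul_comm]
  rw [e1]
  zify
  have e2 : ∀ g : G,
      (((fx (Ω := Ω) g).card : ℤ) * (fx (Ω := Ω) g).card
        + (((fx (Ω := Ω) g).card - 1 : ℕ) : ℤ) * ((Fintype.card Ω - (fx (Ω := Ω) g).card : ℕ) : ℤ))
      = ((if (fx (Ω := Ω) g).card = 0 then (Fintype.card Ω : ℤ) else 0)
        + (((Fintype.card Ω : ℤ) + 1) * (fx (Ω := Ω) g).card - Fintype.card Ω)) := by
    intro g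
    have hle := fx_card_le (Ω := Ω) g
    rcases Nat.eq_zero_or_pos (fx (Ω := Ω) g).card with h | h
    · simp [h]
    · rw [if_neg h.ne', Nat.cast_sub h, Nat.cast_sub hle]
      push_cast
      ring
  rw [Finset.sum_congr rfl fun g _ => e2 g, Finset.sum_add_distrib, Finset.sum_sub_distrib,
    ← Finset.mul_sum, ← Nat.cast_sum, hsum, Finset.sum_const, Finset.card_univ, nsmul_eq_mul]
  simp only [Nat.cast_eq_zero]
  ring

end Cfsg.Agent.DerangeBound
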