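import Cfsg.Agent.Lib.DerangeBound.Count

/-!
# The two point stabilisers of a doubly transitive group

`PF a b` is the finset of elements fixing `a` and `b`, `LF a b` the "line" of all points fixed by
every element of `PF a b`.
-/

set_option autoImplicit false
set_option linter.unusedSectionVars false

open Finset

namespace Cfsg.Agent.DerangeBound

variable {G Ω : Type*} [Group G] [MulAction G Ω] [Fintype G] [Fintype Ω] [DecidableEq Ω]

/-- Double transitivity, spelled out. -/
def IsTwoTrans (G Ω : Type*) [Group G] [MulAction G Ω] : Prop :=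
  ∀ a b c d : Ω, a ≠ b → c ≠ d → ∃ g : G, g • a = c ∧ g • b = d

/-- Elements fixing `a` and `b`. -/
def PF (a b : Ω) : Finset G := univ.filter fun g : G => g • a = a ∧ g • b = b

theorem mem_PF {a b : Ω} {g : G} : g ∈ PF a b ↔ g • a = a ∧ g • b = b := by simp [PF]

theorem PF_comm (a b : Ω) : PF (G := G) a b = PF b a := by
  ext g; simp [mem_PF, and_comm]

theorem one_mem_PF (a b : Ω) : (1 : G) ∈ PF a b := by simp [mem_PF]

/-- The line through `a` and `b`. -/
def LF (G : Type*) {Ω : Type*} [Group G] [MulAction G Ω] [Fintype G] [Fintype Ω] [DecidableEq Ω]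
    (a b : Ω) : Finset Ω :=
  univ.filter fun x => ∀ g ∈ PF (G := G) a b, g • x = x

theorem mem_LF {a b x : Ω} : x ∈ LF G a b ↔ ∀ g : G, g ∈ PF a b → g • x = x := by simp [LF]

theorem left_mem_LF (a b : Ω) : a ∈ LF G a b := mem_LF.mpr fun _ hg => (mem_PF.mp hg).1

theorem right_mem_LF (a b : Ω) : b ∈ LF G a b := mem_LF.mpr fun _ hg => (mem_PF.mp hg).2

theorem LF_comm (a b : Ω) : LF G a b = LF G b a := by
  ext x; simp [mem_LF, PF_comm a b]

theorem two_le_card_LF {a b : Ω} (h : a ≠ b) : 2 ≤ (LF G a b).card :=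
  Finset.one_lt_card.mpr ⟨a, left_mem_LF a b, b, right_mem_LF a b, h⟩

theorem fx_conj (g h : G) :
    (fx (Ω := Ω) (g * h * g⁻¹)).card = (fx (Ω := Ω) h).card := by
  refine Finset.card_equiv (MulAction.toPerm g⁻¹) fun x => ?_
  rw [mem_fx, mem_fx, MulAction.toPerm_apply, mul_smul, mul_smul]
  exact smul_eq_iff_eq_inv_smul g

theorem conj_mem_PF {g h : G} {a b : Ω} :
    g * h * g⁻¹ ∈ PF (g • a) (g • b) ↔ h ∈ PF a b := by
  simp [mem_PF, mul_smul]

theorem sum_PF_conj (h2 : IsTwoTrans G Ω) {M : Type*} [AddCommMonoid M] (w : ℕ → M)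
    {a b c d : Ω} (hab : a ≠ b) (hcd : c ≠ d) :
    ∑ h ∈ PF (G := G) a b, w (fx (Ω := Ω) h).card = ∑ h ∈ PF (G := G) c d, w (fx (Ω := Ω) h).card := by
  obtain ⟨g, rfl, rfl⟩ := h2 a b c d hab hcd
  refine Finset.sum_equiv (MulAut.conj g).toEquiv (fun h => ?_) fun h _ => ?_
  · simp [conj_mem_PF]
  · simp [fx_conj]

theorem card_PF (h2 : IsTwoTrans G Ω) {a b c d : Ω} (hab : a ≠ b) (hcd : c ≠ d) :
    (PF (G := G) a b).card = (PF (G := G) c d).card := by
  simpa using sum_PF_conj (G := G) h2 (fun _ => (1 : ℕ)) hab hcd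

theorem card_LF (h2 : IsTwoTrans G Ω) {a b c d : Ω} (hab : a ≠ b) (hcd : c ≠ d) :
    (LF G a b).card = (LF G c d).card := by
  obtain ⟨g, rfl, rfl⟩ := h2 a b c d hab hcd
  refine Finset.card_equiv (MulAction.toPerm g) fun x => ?_
  rw [mem_LF, mem_LF, MulAction.toPerm_apply]
  constructor
  · intro hx k hk
    have hk' : g⁻¹ * k * g ∈ PF a b := by
      rw [← conj_mem_PF (g := g)]
      simpa [mul_assoc] using hk
    have := hx _ hk'
    rwa [mul_smul, mul_smul, inv_smul_eq_iff] at this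
  · intro hx h hh
    have := hx _ (conj_mem_PF.mpr hh)
    simpa [mul_smul] using this

/-- Two points of a line determine its stabiliser. -/
theorem PF_eq_of_mem_LF (h2 : IsTwoTrans G Ω) {a b x y : Ω} (hab : a ≠ b) (hxy : x ≠ y)
    (hx : x ∈ LF G a b) (hy : y ∈ LF G a b) : PF (G := G) x y = PF a b := by
  symm
  refine Finset.eq_of_subset_of_card_le (fun g hg => mem_PF.mpr ⟨mem_LF.mp hx g hg, mem_LF.mp hy g hg⟩) ?_
  exact le_of_eq (card_PF h2 hxy hab)

/-- The lines through a moved point `x` and the fixed points of `g` bound the fixed points. -/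
theorem card_fx_mul_le (h2 : IsTwoTrans G Ω) {α β : Ω} (hαβ : α ≠ β) {g : G} {x : Ω}
    (hx : g • x ≠ x) :
    (fx (Ω := Ω) g).card * ((LF G α β).card - 1) ≤ Fintype.card Ω - 1 := by
  classical
  have hxp : ∀ p ∈ fx (Ω := Ω) g, x ≠ p := fun p hp e => hx (e ▸ mem_fx.mp hp)
  have hdisj : ((fx (Ω := Ω) g : Finset Ω) : Set Ω).PairwiseDisjoint
      fun p => (LF G x p).erase x := by
    intro p hp q hq hpq
    rw [Function.onFun, Finset.disjoint_left]
    intro z hzp hzq
    rw [Finset.mem_erase] at hzp hzq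
    have e1 := PF_eq_of_mem_LF h2 (hxp p hp) hzp.1.symm (left_mem_LF x p) hzp.2
    have e2 := PF_eq_of_mem_LF h2 (hxp q hq) hzp.1.symm (left_mem_LF x q) hzq.2
    have hqL : q ∈ LF G x p := by
      rw [mem_LF, ← e1, e2]
      exact fun k hk => (mem_PF.mp hk).2
    have e3 := PF_eq_of_mem_LF h2 (hxp p hp) hpq (right_mem_LF x p) hqL
    have hg : g ∈ PF (G := G) p q :=
      mem_PF.mpr ⟨mem_fx.mp (Finset.mem_coe.mp hp), mem_fx.mp (Finset.mem_coe.mp hq)⟩
    rw [e3] at hg
    exact hx (mem_PF.mp hg).1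
  calc (fx (Ω := Ω) g).card * ((LF G α β).card - 1)
      = ∑ p ∈ fx (Ω := Ω) g, ((LF G x p).erase x).card := by
        rw [Finset.sum_congr rfl fun p hp => ?_, Finset.sum_const, smul_eq_mul]
        rw [Finset.card_erase_of_mem (left_mem_LF x p), card_LF h2 (hxp p hp) hαβ]
    _ = ((fx (Ω := Ω) g).biUnion fun p => (LF G x p).erase x).card :=
        (Finset.card_biUnion hdisj).symm
    _ ≤ (univ.erase x).card := by
        refine Finset.card_le_card fun z hz => ?_
        obtain ⟨p, _, hz'⟩ := Finset.mem_biUnion.mp hz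
        exact Finset.mem_erase.mpr ⟨(Finset.mem_erase.mp hz').1, mem_univ _⟩
    _ = Fintype.card Ω - 1 := by rw [Finset.card_erase_of_mem (mem_univ x), Finset.card_univ]

/-- All fibres of `g ↦ (g a, g b)` have the size of the two point stabiliser. -/
theorem card_group (h2 : IsTwoTrans G Ω) {α β : Ω} (hαβ : α ≠ β) :
    Fintype.card G = (univ : Finset Ω).offDiag.card * (PF (G := G) α β).card := by
  classical
  rw [← Finset.card_univ, Finset.card_eq_sum_card_fiberwise
    (f := fun g : G => (g • α, g • β)) (t := (univ : Finset Ω).offDiag)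
    (fun g _ => by simp [hαβ])]
  rw [Finset.sum_congr rfl fun cd hcd => ?_, Finset.sum_const, smul_eq_mul]
  rw [Finset.mem_offDiag] at hcd
  obtain ⟨g0, hc, hd⟩ := h2 α β cd.1 cd.2 hαβ hcd.2.2
  refine Finset.card_equiv (Equiv.mulLeft g0⁻¹) fun g => ?_
  simp [mem_PF, mul_smul, inv_smul_eq_iff, Prod.ext_iff, hc, hd]

/-- Sums over pairs of fixed points reduce to the two point stabiliser. -/
theorem sum_pairs (h2 : IsTwoTrans G Ω) {α β : Ω} (hαβ : α ≠ β) {M : Type*} [AddCommMonoid M]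
    (w : ℕ → M) :
    ∑ g : G, (fx (Ω := Ω) g).offDiag.card • w (fx (Ω := Ω) g).card
      = (univ : Finset Ω).offDiag.card • ∑ h ∈ PF (G := G) α β, w (fx (Ω := Ω) h).card := by
  classical
  calc ∑ g : G, (fx (Ω := Ω) g).offDiag.card • w (fx (Ω := Ω) g).card
      = ∑ g : G, ∑ _p ∈ (fx (Ω := Ω) g).offDiag, w (fx (Ω := Ω) g).card := by
        simp [Finset.sum_const]
    _ = ∑ p ∈ (univ : Finset Ω).offDiag, ∑ g ∈ PF (G := G) p.1 p.2, w (fx (Ω := Ω) g).card := by
        refine Finset.sum_comm' fun g p => ?_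
        simp [Finset.mem_offDiag, mem_fx, mem_PF]
        tauto
    _ = _ := by
        rw [Finset.sum_congr rfl fun p hp => sum_PF_conj h2 w (Finset.mem_offDiag.mp hp).2.2 hαβ,
          Finset.sum_const]

theorem offDiag_univ_card :
    (univ : Finset Ω).offDiag.card = Fintype.card Ω * Fintype.card Ω - Fintype.card Ω := by
  rw [Finset.offDiag_card, Finset.card_univ]

/-- In a doubly transitive group `∑ f(g)^2 = 2|G|`. -/
theorem sum_sq_eq [MulAction.IsPretransitive G Ω] [Nonempty Ω] (h2 : IsTwoTrans G Ω) {α β : Ω}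
    (hαβ : α ≠ β) :
    ∑ g : G, (fx (Ω := Ω) g).card * (fx (Ω := Ω) g).card = 2 * Fintype.card G := by
  have h := sum_pairs (G := G) h2 hαβ (fun _ => (1 : ℕ))
  simp only [smul_eq_mul, mul_one, Finset.sum_const] at h
  rw [← card_group h2 hαβ] at h
  calc ∑ g : G, (fx (Ω := Ω) g).card * (fx (Ω := Ω) g).card
      = ∑ g : G, ((fx (Ω := Ω) g).offDiag.card + (fx (Ω := Ω) g).card) := by
        refine Finset.sum_congr rfl fun g _ => ?_
        rw [Finset.offDiag_card, Nat.sub_add_cancel (Nat.le_mul_self _)]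
    _ = 2 * Fintype.card G := by
        rw [Finset.sum_add_distrib, h, sum_fx]; ring

end Cfsg.Agent.DerangeBound
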