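import Cfsg.Agent.Lib.DerangeBound.Triangle

/-!
# Derangements: at least `2|G|/n` of them, unless the group is sharply doubly transitive
-/

set_option autoImplicit false
set_option linter.unusedSectionVars false
set_option linter.style.haveILetI false

open Finset

namespace Cfsg.Agent.DerangeBound

variable {G Ω : Type*} [Group G] [MulAction G Ω] [Fintype G] [Fintype Ω] [DecidableEq Ω]

theorem mul_mem_PF {a b : Ω} {g h : G} (hg : g ∈ PF a b) (hh : h ∈ PF a b) : g * h ∈ PF a b := by
  rw [mem_PF] at *; simp [mul_smul, hg.1, hg.2, hh.1, hh.2]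

theorem inv_mem_PF {a b : Ω} {g : G} (hg : g ∈ PF a b) : g⁻¹ ∈ PF a b := by
  rw [mem_PF] at *; simp [inv_smul_eq_iff, hg.1, hg.2]

theorem LF_subset_fx {a b : Ω} {g : G} (hg : g ∈ PF (G := G) a b) : LF G a b ⊆ fx g :=
  fun _ hx => mem_fx.mpr (mem_LF.mp hx g hg)

/-- Size of the orbit of `x` under the two point stabiliser times the stabiliser of `x`. -/
theorem card_image_mul (a b x : Ω) :
    ((PF (G := G) a b).image fun g => g • x).card *
      ((PF (G := G) a b).filter fun g => g • x = x).card = (PF (G := G) a b).card := by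
  classical
  rw [Finset.card_eq_sum_card_fiberwise (f := fun g => g • x)
    (s := PF (G := G) a b) (t := (PF (G := G) a b).image fun g => g • x)
    (fun g hg => Finset.mem_image_of_mem _ hg)]
  rw [Finset.sum_congr rfl fun y hy => ?_, Finset.sum_const, smul_eq_mul]
  obtain ⟨g0, hg0, rfl⟩ := Finset.mem_image.mp hy
  refine Finset.card_equiv (Equiv.mulLeft g0⁻¹) fun g => ?_
  simp only [Finset.mem_filter, Equiv.coe_mulLeft, mul_smul, inv_smul_eq_iff]
  refine and_congr_left' ⟨fun h => mul_mem_PF (inv_mem_PF hg0) h, fun h => ?_⟩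
  have := mul_mem_PF hg0 h
  rwa [mul_inv_cancel_left] at this

theorem filter_card_smul (a b x : Ω) {g0 : G} (hg0 : g0 ∈ PF a b) :
    ((PF (G := G) a b).filter fun g => g • (g0 • x) = g0 • x).card
      = ((PF (G := G) a b).filter fun g => g • x = x).card := by
  classical
  symm
  refine Finset.card_equiv (MulAut.conj g0).toEquiv fun g => ?_
  simp only [Finset.mem_filter, MulEquiv.toEquiv_eq_coe, EquivLike.coe_coe, MulAut.conj_apply]
  refine and_congr ⟨fun h => mul_mem_PF (mul_mem_PF hg0 h) (inv_mem_PF hg0), fun h => ?_⟩ ?_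
  · have := mul_mem_PF (mul_mem_PF (inv_mem_PF hg0) h) hg0
    simpa [mul_assoc] using this
  · simp [mul_smul]

/-- Many fixed points in the two point stabiliser force small orbits. -/
theorem orbit_bounds {a b : Ω}
    (hbig : (Fintype.card Ω + (LF G a b).card) * (PF (G := G) a b).card
      ≤ 2 * (∑ g ∈ PF (G := G) a b, (fx (Ω := Ω) g).card) + (PF (G := G) a b).card) :
    (∀ x ∉ LF G a b,
      2 * ((PF (G := G) a b).filter fun g => g • x = x).card = (PF (G := G) a b).card ∨
      3 * ((PF (G := G) a b).filter fun g => g • x = x).card = (PF (G := G) a b).card) ∧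
    (((LF G a b)ᶜ).filter fun x =>
      ¬ 2 * ((PF (G := G) a b).filter fun g => g • x = x).card = (PF (G := G) a b).card).card ≤ 3 := by
  classical
  set H := (PF (G := G) a b).card with hH
  set k : Ω → ℕ := fun x => ((PF (G := G) a b).filter fun g => g • x = x).card with hk
  have hsum : ∑ g ∈ PF (G := G) a b, (fx (Ω := Ω) g).card = ∑ x : Ω, k x := by
    simp only [hk, fx, Finset.card_filter]
    exact Finset.sum_comm
  have hL : ∀ x ∈ LF G a b, k x = H := fun x hx => by
    simp only [hk, hH]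
    rw [Finset.filter_true_of_mem fun g hg => mem_LF.mp hx g hg]
  have hout : ∀ x ∉ LF G a b, 2 ≤ ((PF (G := G) a b).image fun g => g • x).card := by
    intro x hx
    rw [mem_LF] at hx
    push Not at hx
    obtain ⟨g, hg, hgx⟩ := hx
    exact Finset.one_lt_card.mpr ⟨g • x, Finset.mem_image_of_mem _ hg, x,
      Finset.mem_image.mpr ⟨1, one_mem_PF a b, one_smul G x⟩, hgx⟩
  have hle : ∀ x ∈ (LF G a b)ᶜ, 2 * k x ≤ H := fun x hx => by
    have h1 : _ * k x = H := card_image_mul (G := G) a b x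
    rw [← h1]
    exact Nat.mul_le_mul_right _ (hout x (Finset.mem_compl.mp hx))
  have htot : ∑ x ∈ (LF G a b)ᶜ, (H - 2 * k x) ≤ H := by
    have e1 : ∑ x ∈ (LF G a b)ᶜ, (H - 2 * k x) + 2 * ∑ x ∈ (LF G a b)ᶜ, k x
        = (Fintype.card Ω - (LF G a b).card) * H := by
      rw [Finset.mul_sum, ← Finset.sum_add_distrib,
        Finset.sum_congr rfl fun x hx => Nat.sub_add_cancel (hle x hx), Finset.sum_const,
        Finset.card_compl, smul_eq_mul]
    have e2 : ∑ x : Ω, k x = (LF G a b).card * H + ∑ x ∈ (LF G a b)ᶜ, k x := by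
      rw [← Finset.sum_add_sum_compl (LF G a b), Finset.sum_congr rfl hL, Finset.sum_const,
        smul_eq_mul]
    rw [hsum, e2] at hbig
    have e3 : (LF G a b).card ≤ Fintype.card Ω := Finset.card_le_univ _
    zify [e3] at e1 hbig ⊢
    linarith
  have hsmall : ∀ x ∉ LF G a b, 2 * k x = H ∨ 3 * k x = H := by
    intro x hx
    set O := (PF (G := G) a b).image fun g => g • x with hO
    have hsub : O ⊆ (LF G a b)ᶜ := by
      intro y hy
      obtain ⟨g, hg, rfl⟩ := Finset.mem_image.mp hy
      refine Finset.mem_compl.mpr fun hc => hx ?_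
      have h1 := mem_LF.mp hc g hg
      rwa [smul_left_cancel_iff g |>.mp h1] at hc
    have h3 : O.card * (H - 2 * k x) ≤ H := by
      refine le_trans ?_ htot
      refine le_trans (le_of_eq ?_) (Finset.sum_le_sum_of_subset hsub)
      rw [Finset.sum_congr rfl fun y hy => ?_, Finset.sum_const, smul_eq_mul]
      obtain ⟨g, hg, rfl⟩ := Finset.mem_image.mp hy
      simp only [hk, filter_card_smul a b x hg]
    have h1 : O.card * k x = H := card_image_mul (G := G) a b x
    have h2 : 2 ≤ O.card := hout x hx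
    have h4 : O.card ≤ 3 := by
      by_contra h4
      push Not at h4
      have hHpos : 0 < H := Finset.card_pos.mpr ⟨1, one_mem_PF a b⟩
      have h5 : 2 * k x ≤ H := hle x (Finset.mem_compl.mpr hx)
      zify [h5] at h3
      nlinarith
    rcases (by omega : O.card = 2 ∨ O.card = 3) with h | h
    · exact Or.inl (by rw [← h1, h])
    · exact Or.inr (by rw [← h1, h])
  refine ⟨hsmall, ?_⟩
  set B := ((LF G a b)ᶜ).filter fun x => ¬ 2 * k x = H with hB
  show B.card ≤ 3
  have h6 : ∑ x ∈ B, 3 * (H - 2 * k x) = B.card * H := by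
    rw [Finset.sum_congr rfl fun x hx => ?_, Finset.sum_const, smul_eq_mul]
    obtain ⟨hx1, hx2⟩ := Finset.mem_filter.mp hx
    have := (hsmall x (Finset.mem_compl.mp hx1)).resolve_left hx2
    omega
  have h7 : B.card * H ≤ 3 * H := by
    rw [← h6, ← Finset.mul_sum]
    exact Nat.mul_le_mul_left 3 (le_trans (Finset.sum_le_sum_of_subset (Finset.filter_subset _ _)) htot)
  exact Nat.le_of_mul_le_mul_right h7 (Finset.card_pos.mpr ⟨1, one_mem_PF a b⟩)

variable [FaithfulSMul G Ω]

theorem eq_one_of_fixes {g : G} (h : ∀ x : Ω, g • x = x) : g = 1 :=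
  eq_of_smul_eq_smul (α := Ω) fun x => by rw [h x, one_smul]

theorem fx_ne_univ {g : G} (hg : g ≠ 1) : ∃ x : Ω, g • x ≠ x := by
  by_contra h
  push Not at h
  exact hg (eq_one_of_fixes h)

/-- The large configuration is impossible. -/
theorem not_big (h2 : IsTwoTrans G Ω) {α β : Ω} (hαβ : α ≠ β) (hn : 7 ≤ Fintype.card Ω)
    (hF : (LF G α β).card ≤ 3) (hH : 3 ≤ (PF (G := G) α β).card)
    (hbig : (Fintype.card Ω + (LF G α β).card) * (PF (G := G) α β).card
      ≤ 2 * (∑ g ∈ PF (G := G) α β, (fx (Ω := Ω) g).card) + (PF (G := G) α β).card) : False := by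
  classical
  have hbig' : ∀ a b : Ω, a ≠ b → (Fintype.card Ω + (LF G a b).card) * (PF (G := G) a b).card
      ≤ 2 * (∑ g ∈ PF (G := G) a b, (fx (Ω := Ω) g).card) + (PF (G := G) a b).card := by
    intro a b hab
    rw [card_LF h2 hab hαβ, card_PF h2 hab hαβ, sum_PF_conj h2 (fun k : ℕ => k) hab hαβ]
    exact hbig
  have hK : HalfOrThird G Ω := fun a b hab x hx => by
    rw [natCard_PS, natCard_PX]
    exact (orbit_bounds (hbig' a b hab)).1 x hx
  obtain ⟨hall, hbad⟩ := orbit_bounds hbig
  set B := ((LF G α β)ᶜ).filter fun x =>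
    ¬ 2 * ((PF (G := G) α β).filter fun g => g • x = x).card = (PF (G := G) α β).card with hB
  have hgood : ∀ x ∉ B, x ∉ LF G α β → 2 * Nat.card (PX G α β x) = Nat.card (PS G α β) := by
    intro x hx hxL
    rw [natCard_PS, natCard_PX]
    by_contra h
    exact hx (Finset.mem_filter.mpr ⟨Finset.mem_compl.mpr hxL, h⟩)
  obtain ⟨γ, hγ, hγB⟩ : ∃ γ ∈ (LF G α β)ᶜ, γ ∉ B := by
    refine Finset.exists_mem_notMem_of_card_lt_card ?_
    rw [Finset.card_compl]
    omega
  rw [Finset.mem_compl] at hγ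
  have gγ := hgood γ hγB hγ
  have hfix : ∀ d ∈ PX G α β γ, ∀ x ∉ B, d • x = x := by
    intro d hd x hx
    by_cases hxL : x ∈ LF G α β
    · exact mem_LF.mp hxL d (mem_PF.mpr (mem_PX.mp hd).1)
    · exact triangle h2 hK hαβ hγ hxL gγ (hgood x hx hxL) hd
  rw [natCard_PS] at gγ
  obtain ⟨d, hd, hd1⟩ : ∃ d ∈ PX G α β γ, d ≠ 1 := by
    by_contra hc
    push Not at hc
    have : PX G α β γ = ⊥ := (Subgroup.eq_bot_iff_forall _).mpr hc
    rw [this, Subgroup.card_bot] at gγ
    omega
  have hmoved : (fx (Ω := Ω) d)ᶜ ⊆ B := fun x hx => by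
    by_contra hxB
    exact Finset.mem_compl.mp hx (mem_fx.mpr (hfix d hd x hxB))
  have hcard := Finset.card_le_card hmoved
  rw [Finset.card_compl] at hcard
  obtain ⟨x0, hx0⟩ := fx_ne_univ (Ω := Ω) hd1
  have hline := card_fx_mul_le h2 hαβ hx0
  have hF2 := two_le_card_LF (G := G) hαβ
  have hfle := fx_card_le (Ω := Ω) d
  rcases (by omega : (LF G α β).card = 2 ∨ (LF G α β).card = 3) with hF' | hF'
  swap
  · rw [hF'] at hline
    omega
  -- the group contains the alternating group
  set φ : G →* Equiv.Perm Ω := MulAction.toPermHom G Ω with hφ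
  have hinj : Function.Injective φ := MulAction.toPerm_injective
  have hprim : MulAction.IsPreprimitive φ.range Ω := by
    apply MulAction.isPreprimitive_of_is_two_pretransitive
    rw [MulAction.is_two_pretransitive_iff]
    intro a b c e hab hce
    obtain ⟨g, hga, hgb⟩ := h2 a b c e hab hce
    exact ⟨⟨φ g, g, rfl⟩, hga, hgb⟩
  have hsupp : (φ d).support ⊆ B := fun x hx => by
    apply hmoved
    rw [Finset.mem_compl, mem_fx]
    exact Equiv.Perm.mem_support.mp hx
  have hne : φ d ≠ 1 := fun h => hd1 (hinj (h.trans φ.map_one.symm))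
  have hs2 := Equiv.Perm.one_lt_card_support_of_ne_one hne
  have hs3 := Finset.card_le_card hsupp
  have halt : alternatingGroup Ω ≤ φ.range := by
    rcases (by omega : (φ d).support.card = 2 ∨ (φ d).support.card = 3) with h | h
    · rw [Equiv.Perm.subgroup_eq_top_of_isPreprimitive_of_isSwap_mem hprim (φ d)
        (Equiv.Perm.card_support_eq_two.mp h) ⟨d, rfl⟩]
      exact le_top
    · exact Equiv.Perm.alternatingGroup_le_of_isPreprimitive_of_isThreeCycle_mem hprim
        (card_support_eq_three_iff.mp h) ⟨d, rfl⟩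
  -- the pointwise bound on `D`
  have hD : Nat.card (PX G α β γ) ≤ (B.card).factorial := by
    have hstab : ∀ d : PX G α β γ, ∀ x, (φ (d : G)) x ∈ B ↔ x ∈ B := by
      intro d x
      constructor
      · intro hx
        by_contra hxB
        exact hxB ((hfix d d.2 x hxB : φ (d : G) x = x) ▸ hx)
      · intro hx
        by_contra hxB
        have h1 : φ (d : G) (φ (d : G) x) = φ (d : G) x := hfix d d.2 _ hxB
        rw [(φ (d : G)).injective h1] at hxB
        exact hxB hx
    have e : (B.card).factorial = Nat.card (Equiv.Perm {x // x ∈ B}) := by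
      rw [Nat.card_perm, Nat.card_eq_fintype_card, Fintype.card_coe]
    rw [e]
    refine Nat.card_le_card_of_injective
      (fun d : PX G α β γ => (φ (d : G)).subtypePerm (hstab d)) fun d e hde => ?_
    refine Subtype.ext (eq_of_smul_eq_smul (α := Ω) fun x => ?_)
    by_cases hx : x ∈ B
    · have := congrArg (fun p : Equiv.Perm {x // x ∈ B} => ((p ⟨x, hx⟩ : {x // x ∈ B}) : Ω)) hde
      simpa [hφ] using this
    · rw [hfix d d.2 x hx, hfix e e.2 x hx]
  have hH12 : (PF (G := G) α β).card ≤ 12 := by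
    have h3 : (B.card).factorial ≤ 6 := le_trans (Nat.factorial_le hbad) (by decide)
    omega
  have hG : Nat.factorial (Fintype.card Ω) ≤ 2 * Fintype.card G := by
    haveI : Nontrivial Ω := ⟨α, β, hαβ⟩
    have h1 : 2 * Nat.card (alternatingGroup Ω) = Nat.card (Equiv.Perm Ω) :=
      two_mul_nat_card_alternatingGroup
    rw [Nat.card_perm, Nat.card_eq_fintype_card (α := Ω)] at h1
    have h3 : Nat.card φ.range = Fintype.card G := by
      rw [← Nat.card_congr (MonoidHom.ofInjective hinj).toEquiv, Nat.card_eq_fintype_card]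
    have h4 := Subgroup.card_le_of_le halt
    omega
  rw [card_group h2 hαβ, offDiag_univ_card] at hG
  obtain ⟨m, hm⟩ : ∃ m, Fintype.card Ω = m + 2 := ⟨Fintype.card Ω - 2, by omega⟩
  rw [hm, Nat.factorial_succ, Nat.factorial_succ] at hG
  have h120 : 120 ≤ m.factorial := le_trans (by decide) (Nat.factorial_le (by omega : 5 ≤ m))
  have hsub : (m + 2) * (m + 2) - (m + 2) = (m + 2) * (m + 1) := by
    rw [← Nat.mul_sub_one]; rfl
  rw [hsub, ← mul_assoc, show m + 1 + 1 = m + 2 from rfl] at hG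
  have h8 : (m + 2) * (m + 1) * 120 ≤ (m + 2) * (m + 1) * m.factorial := Nat.mul_le_mul_left _ h120
  have h9 : (m + 2) * (m + 1) * (PF (G := G) α β).card ≤ (m + 2) * (m + 1) * 12 :=
    Nat.mul_le_mul_left _ hH12
  have h10 : 0 < (m + 2) * (m + 1) := by positivity
  omega

/-- No transitive group of order 84 on 7 points. -/
theorem not_seven [MulAction.IsPretransitive G Ω] (hn : Fintype.card Ω = 7)
    (hG : Fintype.card G = 84) : False := by
  classical
  haveI : Fact (Nat.Prime 7) := ⟨by norm_num⟩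
  haveI : Nonempty Ω := Fintype.card_pos_iff.mp (by omega)
  let P : Sylow 7 G := default
  have hmul := (P : Subgroup G).card_mul_index
  rw [Nat.card_eq_fintype_card (α := G), hG] at hmul
  obtain ⟨k, hk⟩ := IsPGroup.iff_card.mp P.isPGroup'
  rw [hk] at hmul
  have hndvd := P.not_dvd_index
  have hk1 : k = 1 := by
    rcases k with _ | _ | k
    · simp at hmul; rw [hmul] at hndvd; norm_num at hndvd
    · rfl
    · have : (49 : ℕ) ∣ 84 := ⟨7 ^ k * (P : Subgroup G).index, by rw [← hmul]; ring⟩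
      norm_num at this
  subst hk1
  have hidx : (P : Subgroup G).index = 12 := by omega
  have hd12 := P.card_dvd_index
  rw [hidx] at hd12
  have hmod := card_sylow_modEq_one 7 G
  have hone : Nat.card (Sylow 7 G) = 1 := by
    have hle := Nat.le_of_dvd (by norm_num) hd12
    unfold Nat.ModEq at hmod
    interval_cases h : Nat.card (Sylow 7 G) <;> omega
  haveI : Subsingleton (Sylow 7 G) := (Nat.card_eq_one_iff_unique.mp hone).1
  haveI hnormal : (P : Subgroup G).Normal := P.normal_of_subsingleton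
  have h7 : Nat.card (P : Subgroup G) = 7 := by rw [hk]; rfl
  obtain ⟨c, hc, hc1⟩ : ∃ c ∈ (P : Subgroup G), c ≠ 1 := by
    by_contra h
    push Not at h
    rw [(Subgroup.eq_bot_iff_forall _).mpr h, Subgroup.card_bot] at h7
    omega
  have hgen : ∀ x ∈ (P : Subgroup G), x ≠ 1 → ∀ y ∈ (P : Subgroup G), ∃ i : ℤ, x ^ i = y := by
    intro x hx hx1 y hy
    have h := zpowers_eq_top_of_prime_card (G := (P : Subgroup G)) h7 (g := ⟨x, hx⟩)
      (fun e => hx1 (congrArg Subtype.val e))
    have : (⟨y, hy⟩ : (P : Subgroup G)) ∈ Subgroup.zpowers ⟨x, hx⟩ := h ▸ Subgroup.mem_top _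
    obtain ⟨i, hi⟩ := Subgroup.mem_zpowers_iff.mp this
    exact ⟨i, by simpa using congrArg Subtype.val hi⟩
  let α : Ω := Classical.arbitrary Ω
  have hfree : ∀ x ∈ (P : Subgroup G), x • α = α → x = 1 := by
    intro x hx hxα
    by_contra hx1
    have hall : ∀ y ∈ (P : Subgroup G), y • α = α := fun y hy => by
      obtain ⟨i, rfl⟩ := hgen x hx hx1 y hy
      exact (MulAction.mem_stabilizer_iff.mp
        (zpow_mem (MulAction.mem_stabilizer_iff.mpr hxα) i))
    refine hx1 (eq_one_of_fixes (Ω := Ω) fun z => ?_)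
    obtain ⟨g, rfl⟩ := MulAction.exists_smul_eq G α z
    have := hall _ (hnormal.conj_mem' x hx g)
    rwa [mul_smul, mul_smul, inv_smul_eq_iff] at this
  have hbij : Function.Bijective fun m : (P : Subgroup G) => (m : G) • α := by
    rw [Fintype.bijective_iff_injective_and_card]
    refine ⟨fun m m' e => ?_, by rw [← Nat.card_eq_fintype_card, h7, hn]⟩
    have : (m' : G)⁻¹ * m = 1 := hfree _ (mul_mem (inv_mem m'.2) m.2)
      (by rw [mul_smul]; exact inv_smul_eq_iff.mpr e)
    exact Subtype.ext (inv_mul_eq_one.mp this).symm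
  have hst : (stF (G := G) α).card ≤ 7 := by
    rw [card_stF, ← h7]
    refine Nat.card_le_card_of_injective
      (fun g : MulAction.stabilizer G α => (⟨g * c * (g : G)⁻¹, hnormal.conj_mem c hc g⟩ :
        (P : Subgroup G))) fun g g' e => ?_
    have e' : (g : G) * c * (g : G)⁻¹ = g' * c * (g' : G)⁻¹ := congrArg Subtype.val e
    have hcomm : Commute ((g' : G)⁻¹ * g) c := by
      have : (g' : G)⁻¹ * g * c = c * ((g' : G)⁻¹ * g) :=
        calc (g' : G)⁻¹ * g * c = (g' : G)⁻¹ * ((g : G) * c * (g : G)⁻¹) * g := by group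
          _ = (g' : G)⁻¹ * ((g' : G) * c * (g' : G)⁻¹) * g := by rw [e']
          _ = c * ((g' : G)⁻¹ * g) := by group
      exact this
    have hu : ((g' : G)⁻¹ * g) • α = α :=
      MulAction.mem_stabilizer_iff.mp (mul_mem (inv_mem g'.2) g.2)
    have : (g' : G)⁻¹ * g = 1 := eq_one_of_fixes (Ω := Ω) fun z => by
      obtain ⟨⟨m, hm⟩, rfl⟩ := hbij.2 z
      obtain ⟨i, rfl⟩ := hgen c hc hc1 m hm
      show ((g' : G)⁻¹ * g) • c ^ i • α = c ^ i • α
      rw [← mul_smul, (hcomm.zpow_right i).eq, mul_smul, hu]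
    exact Subtype.ext (inv_mul_eq_one.mp this).symm
  have h12 := card_stF_mul (G := G) α
  rw [hn, hG] at h12
  omega

/-- The weighted bound on the two point stabiliser. -/
theorem key_bound [MulAction.IsPretransitive G Ω] (h2 : IsTwoTrans G Ω) {α β : Ω} (hαβ : α ≠ β)
    (hn : 7 ≤ Fintype.card Ω) (hH : 2 ≤ (PF (G := G) α β).card) :
    2 * ((PF (G := G) α β).card : ℚ)
      ≤ ∑ g ∈ PF (G := G) α β, (Fintype.card Ω : ℚ) / (fx (Ω := Ω) g).card := by
  classical
  set n := Fintype.card Ω with hndef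
  set H := (PF (G := G) α β).card with hHdef
  set F := (LF G α β).card with hFdef
  have hF2 : 2 ≤ F := two_le_card_LF hαβ
  have hfF : ∀ g ∈ PF (G := G) α β, F ≤ (fx (Ω := Ω) g).card := fun g hg =>
    Finset.card_le_card (LF_subset_fx hg)
  have hline : ∀ g : G, g ≠ 1 → (fx (Ω := Ω) g).card * (F - 1) ≤ n - 1 := fun g hg => by
    obtain ⟨x, hx⟩ := fx_ne_univ (Ω := Ω) hg
    exact card_fx_mul_le h2 hαβ hx
  have hnq : (0 : ℚ) < n := by exact_mod_cast (by omega : 0 < n)
  have hHq : (2 : ℚ) ≤ H := by exact_mod_cast hH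
  have herase : ((PF (G := G) α β).erase 1).card = H - 1 :=
    Finset.card_erase_of_mem (one_mem_PF α β)
  -- lower bound from a pointwise bound off the identity
  have hlb : ∀ c : ℚ, (∀ g ∈ PF (G := G) α β, g ≠ 1 → c ≤ (n : ℚ) / (fx (Ω := Ω) g).card) →
      1 + ((H : ℚ) - 1) * c ≤ ∑ g ∈ PF (G := G) α β, (n : ℚ) / (fx (Ω := Ω) g).card := by
    intro c hc
    rw [← Finset.add_sum_erase _ _ (one_mem_PF (G := G) α β), fx_one, Finset.card_univ, ← hndef,
      div_self hnq.ne']
    refine add_le_add le_rfl ?_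
    refine le_trans (le_of_eq ?_) (Finset.sum_le_sum fun g hg =>
      hc g (Finset.mem_of_mem_erase hg) (Finset.ne_of_mem_erase hg))
    rw [Finset.sum_const, herase, nsmul_eq_mul, Nat.cast_sub (by omega)]
    push_cast
    ring
  -- case F ≥ 4
  by_cases hF4 : 4 ≤ F
  · refine le_trans ?_ (hlb 3 fun g hg hg1 => ?_)
    · linarith
    · have h1 := hline g hg1
      have h3 : 3 * (fx (Ω := Ω) g).card ≤ (fx (Ω := Ω) g).card * (F - 1) := by
        rw [mul_comm 3]; exact Nat.mul_le_mul_left _ (by omega)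
      have hfpos : 0 < (fx (Ω := Ω) g).card := by have := hfF g hg; omega
      rw [le_div_iff₀ (by exact_mod_cast hfpos)]
      exact_mod_cast (by omega : 3 * (fx (Ω := Ω) g).card ≤ n)
  push Not at hF4
  -- case H = 2
  by_cases hH2 : H = 2
  · refine le_trans ?_ (hlb 3 fun g hg hg1 => ?_)
    · linarith
    · have hPF : ∀ k ∈ PF (G := G) α β, k = 1 ∨ k = g := by
        intro k hk
        by_contra hc
        push Not at hc
        have : 2 < H := Finset.two_lt_card.mpr ⟨1, one_mem_PF α β, g, hg, k, hk,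
          Ne.symm hg1, Ne.symm hc.1, Ne.symm hc.2⟩
        omega
      have hfx : fx (Ω := Ω) g = LF G α β := by
        refine Finset.Subset.antisymm (fun x hx => mem_LF.mpr fun k hk => ?_) (LF_subset_fx hg)
        rcases hPF k hk with rfl | rfl
        · exact one_smul G x
        · exact mem_fx.mp hx
      rw [hfx, ← hFdef, le_div_iff₀ (by exact_mod_cast (by omega : 0 < F))]
      by_contra hc
      push Not at hc
      have hc' : n < 3 * F := by exact_mod_cast hc
      have hF3 : F = 3 := by omega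
      have hn78 : n = 7 ∨ n = 8 := by omega
      rcases hn78 with h7 | h8
      · apply not_seven (G := G) (Ω := Ω) h7
        rw [card_group h2 hαβ, offDiag_univ_card, ← hndef, ← hHdef, h7, hH2]
      · have hsq : g ^ 2 = 1 := by
          rcases hPF (g * g) (mul_mem_PF hg hg) with h | h
          · rw [sq]; exact h
          · exact absurd (mul_eq_left.mp h) hg1
        have hσ : (MulAction.toPerm g : Equiv.Perm Ω) ^ 2 = 1 := by
          have := congrArg (MulAction.toPermHom G Ω) hsq
          rwa [map_pow, map_one] at this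
        have hdvd := Equiv.Perm.two_dvd_card_support hσ
        have hs : (MulAction.toPerm g : Equiv.Perm Ω).support = (fx (Ω := Ω) g)ᶜ := by
          ext x; simp [Equiv.Perm.mem_support, mem_fx]
        rw [hs, Finset.card_compl, hfx, ← hFdef, ← hndef, h8, hF3] at hdvd
        norm_num at hdvd
  -- the orbit count of the two point stabiliser
  set r := Nat.card (MulAction.orbitRel.Quotient (PS G α β) Ω) with hrdef
  have hS : ∑ g ∈ PF (G := G) α β, (fx (Ω := Ω) g).card = r * H := by
    rw [sum_fx_subgroup (PS G α β) (PF α β) (fun g => by rw [mem_PF, mem_PS]), natCard_PS]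
  have hSq : ∑ g ∈ PF (G := G) α β, ((fx (Ω := Ω) g).card : ℚ) = (r : ℚ) * H := by
    exact_mod_cast hS
  -- the tangent bound
  have htan : ∀ t : ℚ, ∀ g ∈ PF (G := G) α β,
      2 * t - t ^ 2 / n * (fx (Ω := Ω) g).card ≤ (n : ℚ) / (fx (Ω := Ω) g).card := by
    intro t g hg
    have hf : (0 : ℚ) < (fx (Ω := Ω) g).card := by
      exact_mod_cast (by have := hfF g hg; omega : 0 < (fx (Ω := Ω) g).card)
    have key : (n : ℚ) / (fx (Ω := Ω) g).card - (2 * t - t ^ 2 / n * (fx (Ω := Ω) g).card)
        = ((n : ℚ) - t * (fx (Ω := Ω) g).card) ^ 2 / (n * (fx (Ω := Ω) g).card) := by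
      field_simp
      ring
    have : 0 ≤ ((n : ℚ) - t * (fx (Ω := Ω) g).card) ^ 2 / (n * (fx (Ω := Ω) g).card) := by
      positivity
    linarith
  by_cases hr : 2 * r ≤ n
  · refine le_trans ?_ (Finset.sum_le_sum fun g hg => htan 2 g hg)
    rw [Finset.sum_sub_distrib, Finset.sum_const, ← Finset.mul_sum, hSq, ← hHdef, nsmul_eq_mul]
    have hrq : 2 * (r : ℚ) ≤ n := by exact_mod_cast hr
    have : (2 : ℚ) ^ 2 / n * (r * H) ≤ 2 * H := by
      rw [div_mul_eq_mul_div, div_le_iff₀ hnq]
      nlinarith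
    linarith
  push Not at hr
  by_cases hF3 : F = 3 ∧ (n + 1 ≤ 2 * H ∨ 2 * r = n + 1)
  · obtain ⟨hF3, hcase⟩ := hF3
    by_cases hbig : n + 1 ≤ 2 * H
    · refine le_trans ?_ (hlb (2 * n / (n - 1)) fun g hg hg1 => ?_)
      · have hb : (n : ℚ) + 1 ≤ 2 * H := by exact_mod_cast hbig
        have hn7 : (7 : ℚ) ≤ n := by exact_mod_cast hn
        have hn1 : (0 : ℚ) < (n : ℚ) - 1 := by linarith
        rw [← sub_le_iff_le_add', mul_div_assoc', le_div_iff₀ hn1]
        nlinarith
      · have h1 := hline g hg1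
        rw [hF3] at h1
        have hfpos : (0 : ℚ) < (fx (Ω := Ω) g).card := by
          exact_mod_cast (by have := hfF g hg; omega : 0 < (fx (Ω := Ω) g).card)
        have hn7 : (7 : ℚ) ≤ n := by exact_mod_cast hn
        have hn1 : (0 : ℚ) < (n : ℚ) - 1 := by linarith
        have h1q : 2 * ((fx (Ω := Ω) g).card : ℚ) + 1 ≤ n := by
          exact_mod_cast (by omega : 2 * (fx (Ω := Ω) g).card + 1 ≤ n)
        rw [div_le_div_iff₀ hn1 hfpos]
        nlinarith
    · have hr' : 2 * (r : ℚ) = n + 1 := by exact_mod_cast hcase.resolve_left hbig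
      have hb : 2 * (H : ℚ) ≤ n + 1 := by exact_mod_cast (by omega : 2 * H ≤ n + 1)
      have hH1 : (0 : ℚ) < (H : ℚ) - 1 := by linarith
      rw [← Finset.add_sum_erase _ _ (one_mem_PF (G := G) α β), fx_one, Finset.card_univ, ← hndef,
        div_self hnq.ne']
      have hle := Finset.sum_le_sum fun g (hg : g ∈ (PF (G := G) α β).erase 1) =>
        htan ((2 * H - 1) / (H - 1)) g (Finset.mem_of_mem_erase hg)
      refine le_trans ?_ (add_le_add le_rfl hle)
      have hSe : ∑ g ∈ (PF (G := G) α β).erase 1, ((fx (Ω := Ω) g).card : ℚ) = r * H - n := by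
        rw [Finset.sum_erase_eq_sub (one_mem_PF α β), hSq, fx_one, Finset.card_univ]
      rw [Finset.sum_sub_distrib, Finset.sum_const, ← Finset.mul_sum, hSe, herase, nsmul_eq_mul,
        Nat.cast_sub (by omega)]
      push_cast
      have e : ((H : ℚ) - 1) * (2 * ((2 * H - 1) / (H - 1))) = 2 * (2 * H - 1) := by
        field_simp
      rw [e]
      have : ((2 * (H : ℚ) - 1) / (H - 1)) ^ 2 / n * (r * H - n) ≤ 2 * H - 1 := by
        rw [div_pow, div_div, div_mul_eq_mul_div, div_le_iff₀ (by positivity)]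
        have h1 : (2 * (H : ℚ) - 1) * (r * H - n) ≤ n * (H - 1) ^ 2 := by
          nlinarith [mul_le_mul_of_nonneg_left hb (by linarith : (0 : ℚ) ≤ H)]
        nlinarith [mul_le_mul_of_nonneg_left h1 (by linarith : (0 : ℚ) ≤ 2 * (H : ℚ) - 1)]
      linarith
  exfalso
  refine not_big h2 hαβ hn (by omega) (by omega) ?_
  rw [hS, ← hndef, ← hHdef, ← hFdef]
  have h1 : n + F ≤ 2 * r + 1 := by omega
  calc (n + F) * H ≤ (2 * r + 1) * H := Nat.mul_le_mul_right _ h1
    _ = 2 * (r * H) + H := by ring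

/-- The main theorem. -/
theorem main [MulAction.IsPretransitive G Ω] (hn : 7 ≤ Fintype.card Ω) :
    (∃ a : ℕ, (a = 1 ∨ a = 2) ∧ (MulAction.IsPretransitive G Ω ∧
        (∃ g : G, g ≠ 1 ∧ ∃ ω : Ω, g • ω = ω) ∧
        ∀ g : G, g ≠ 1 → Nat.card (MulAction.fixedBy Ω g) ≤ 1) ∧
      a * Nat.card G = Fintype.card Ω * (Fintype.card Ω - 1) ∧
      Fintype.card Ω * Nat.card {g : G // ∀ ω : Ω, g • ω ≠ ω} = a * Nat.card G) ∨
    2 * Nat.card G ≤ Fintype.card Ω * Nat.card {g : G // ∀ ω : Ω, g • ω ≠ ω} := by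
  classical
  haveI : Nonempty Ω := Fintype.card_pos_iff.mp (by omega)
  rw [Nat.card_eq_fintype_card (α := G)]
  have hid := card_mul_derangements (G := G) (Ω := Ω)
  by_cases h2 : IsTwoTrans G Ω
  swap
  · unfold IsTwoTrans at h2
    push Not at h2
    obtain ⟨a, b, c, d, hab, hcd, hno⟩ := h2
    have := three_mul_le_sum_sq (G := G) hab hcd fun g hg => hno g hg.1 hg.2
    exact Or.inr (by omega)
  obtain ⟨α, β, hαβ⟩ := Fintype.exists_pair_of_one_lt_card (by omega : 1 < Fintype.card Ω)
  rw [sum_sq_eq h2 hαβ] at hid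
  have hG : Fintype.card G = Fintype.card Ω * (Fintype.card Ω - 1) * (PF (G := G) α β).card := by
    rw [card_group h2 hαβ, offDiag_univ_card, ← Nat.mul_sub_one]
  have hH0 : 0 < (PF (G := G) α β).card := Finset.card_pos.mpr ⟨1, one_mem_PF α β⟩
  by_cases hH1 : (PF (G := G) α β).card = 1
  · refine Or.inl ⟨1, Or.inl rfl, ⟨inferInstance, ?_, ?_⟩, ?_, ?_⟩
    · have h1 := card_stF_mul (G := G) α
      rw [hG, hH1, mul_one] at h1
      have h2' : (stF (G := G) α).card = Fintype.card Ω - 1 :=
        Nat.eq_of_mul_eq_mul_left (by omega) h1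
      obtain ⟨g, hg, hg1⟩ := Finset.exists_mem_ne (s := stF (G := G) α) (by omega) (1 : G)
      exact ⟨g, hg1, α, mem_stF.mp hg⟩
    · intro g hg
      rw [natCard_fixedBy]
      by_contra hc
      push Not at hc
      obtain ⟨p, hp, q, hq, hpq⟩ := Finset.one_lt_card.mp hc
      have hmem : g ∈ PF (G := G) p q := mem_PF.mpr ⟨mem_fx.mp hp, mem_fx.mp hq⟩
      have h1 : (PF (G := G) p q).card = 1 := by rw [card_PF h2 hpq hαβ, hH1]
      exact hg (Finset.card_le_one.mp h1.le g hmem 1 (one_mem_PF p q))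
    · rw [one_mul, hG, hH1, mul_one]
    · have h0 : excess G Ω = 0 := by
        refine Finset.sum_eq_zero fun g _ => ?_
        by_cases hg : g = 1
        · simp [hg, fx_one]
        · have : (fx (Ω := Ω) g).card ≤ 1 := by
            by_contra hc
            push Not at hc
            obtain ⟨p, hp, q, hq, hpq⟩ := Finset.one_lt_card.mp hc
            have hmem : g ∈ PF (G := G) p q := mem_PF.mpr ⟨mem_fx.mp hp, mem_fx.mp hq⟩
            have h1 : (PF (G := G) p q).card = 1 := by rw [card_PF h2 hpq hαβ, hH1]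
            exact hg (Finset.card_le_one.mp h1.le g hmem 1 (one_mem_PF p q))
          rw [Nat.sub_eq_zero_of_le this, zero_mul]
      rw [h0] at hid
      omega
  refine Or.inr ?_
  suffices hT : Fintype.card G ≤ excess G Ω by omega
  have key := key_bound (G := G) h2 hαβ hn (by omega)
  -- the excess as a sum over the two point stabiliser
  have hE : (excess G Ω : ℚ) = ((univ : Finset Ω).offDiag.card : ℚ) *
      ((∑ g ∈ PF (G := G) α β, (Fintype.card Ω : ℚ) / (fx (Ω := Ω) g).card)
        - (PF (G := G) α β).card) := by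
    have h := sum_pairs (G := G) h2 hαβ
      (fun f : ℕ => if f = 0 then (0 : ℚ) else (Fintype.card Ω : ℚ) / f - 1)
    simp only [nsmul_eq_mul] at h
    have e1 : ∑ g ∈ PF (G := G) α β, (if (fx (Ω := Ω) g).card = 0 then (0 : ℚ)
        else (Fintype.card Ω : ℚ) / (fx (Ω := Ω) g).card - 1)
        = (∑ g ∈ PF (G := G) α β, (Fintype.card Ω : ℚ) / (fx (Ω := Ω) g).card)
          - (PF (G := G) α β).card := by
      rw [Finset.sum_congr rfl fun g hg => if_neg ?_, Finset.sum_sub_distrib, Finset.sum_const,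
        nsmul_eq_mul, mul_one]
      exact (Finset.card_pos.mpr ⟨α, mem_fx.mpr (mem_PF.mp hg).1⟩).ne'
    rw [← e1, ← h, excess, Nat.cast_sum]
    refine Finset.sum_congr rfl fun g _ => ?_
    have hle := fx_card_le (Ω := Ω) g
    rcases Nat.eq_zero_or_pos (fx (Ω := Ω) g).card with h0 | h0
    · simp [h0]
    · rw [if_neg h0.ne', Finset.offDiag_card, Nat.cast_mul, Nat.cast_sub h0,
        Nat.cast_sub hle, Nat.cast_sub (Nat.le_mul_self _)]
      have hne : ((fx (Ω := Ω) g).card : ℚ) ≠ 0 := by exact_mod_cast h0.ne'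
      push_cast
      field_simp
  have hGq : (Fintype.card G : ℚ) ≤ (excess G Ω : ℚ) := by
    rw [hE, card_group h2 hαβ, Nat.cast_mul]
    exact mul_le_mul_of_nonneg_left (by linarith) (Nat.cast_nonneg _)
  exact_mod_cast hGq

end Cfsg.Agent.DerangeBound
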