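import Cfsg.Agent.Lib.DerangeBound.Design

/-!
# The triangle lemma

If every point off a line `L a b` has stabiliser of index 2 or 3 in `PS a b`, then all index 2
points of the pair `a, b` have the same stabiliser.
-/

set_option autoImplicit false
set_option linter.unusedSectionVars false

open Finset

namespace Cfsg.Agent.DerangeBound

variable {G Ω : Type*} [Group G] [MulAction G Ω] [Fintype G] [Fintype Ω] [DecidableEq Ω]

/-- Two point stabiliser as a subgroup. -/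
def PS (G : Type*) {Ω : Type*} [Group G] [MulAction G Ω] (a b : Ω) : Subgroup G :=
  MulAction.stabilizer G a ⊓ MulAction.stabilizer G b

/-- Three point stabiliser. -/
def PX (G : Type*) {Ω : Type*} [Group G] [MulAction G Ω] (a b x : Ω) : Subgroup G :=
  PS G a b ⊓ MulAction.stabilizer G x

theorem mem_PS {a b : Ω} {g : G} : g ∈ PS G a b ↔ g • a = a ∧ g • b = b := Iff.rfl

theorem mem_PX {a b x : Ω} {g : G} :
    g ∈ PX G a b x ↔ (g • a = a ∧ g • b = b) ∧ g • x = x := Iff.rfl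

theorem natCard_PS (a b : Ω) : Nat.card (PS G a b) = (PF (G := G) a b).card := by
  classical
  rw [Nat.card_eq_fintype_card, PF, ← Fintype.card_subtype]
  exact Fintype.card_congr (Equiv.subtypeEquivRight fun _ => Iff.rfl)

theorem natCard_PX (a b x : Ω) :
    Nat.card (PX G a b x) = ((PF (G := G) a b).filter fun g => g • x = x).card := by
  classical
  rw [Nat.card_eq_fintype_card, PF, Finset.filter_filter, ← Fintype.card_subtype]
  exact Fintype.card_congr (Equiv.subtypeEquivRight fun _ => Iff.rfl)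

theorem PS_comm (a b : Ω) : PS G a b = PS G b a := inf_comm _ _

theorem PX_comm (a b x : Ω) : PX G a b x = PX G b a x := by rw [PX, PX, PS_comm]

theorem half_mul_mem {S T : Subgroup G} (hle : S ≤ T) (h : 2 * Nat.card S = Nat.card T)
    {x y : G} (hx : x ∈ T) (hy : y ∈ T) (hxS : x ∉ S) (hyS : y ∉ S) : x * y ∈ S := by
  have e : Nat.card (S.subgroupOf T) = Nat.card S :=
    Nat.card_congr (Subgroup.subgroupOfEquivOfLe hle).toEquiv
  have hidx : (S.subgroupOf T).index = 2 := by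
    have h1 := (S.subgroupOf T).card_mul_index
    rw [e, ← h, mul_comm 2] at h1
    exact Nat.eq_of_mul_eq_mul_left Nat.card_pos h1
  have h2 := Subgroup.mul_mem_iff_of_index_two hidx (a := ⟨x, hx⟩) (b := ⟨y, hy⟩)
  simp only [Subgroup.mem_subgroupOf, Subgroup.coe_mul] at h2
  exact h2.mpr ⟨fun hc => absurd hc hxS, fun hc => absurd hc hyS⟩

theorem half_conj_mem {S T : Subgroup G} (hle : S ≤ T) (h : 2 * Nat.card S = Nat.card T)
    {t s : G} (ht : t ∈ T) (hs : s ∈ S) : t * s * t⁻¹ ∈ S := by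
  by_cases hts : t ∈ S
  · exact mul_mem (mul_mem hts hs) (inv_mem hts)
  · refine half_mul_mem hle h (mul_mem ht (hle hs)) (inv_mem ht) (fun hc => hts ?_) (fun hc => hts ?_)
    · exact (Subgroup.mul_mem_cancel_right S hs).mp hc
    · exact inv_mem_iff.mp hc

theorem half_inf {S T D : Subgroup G} (hle : S ≤ T) (h : 2 * Nat.card S = Nat.card T) (hD : D ≤ T)
    {d0 : G} (hd0 : d0 ∈ D) (hd0S : d0 ∉ S) :
    2 * Nat.card (D ⊓ S : Subgroup G) = Nat.card D := by
  classical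
  have e1 : Nat.card (D ⊓ S : Subgroup G)
      = ((univ.filter fun g : G => g ∈ D).filter fun g => g ∈ S).card := by
    rw [Nat.card_eq_fintype_card, Finset.filter_filter, ← Fintype.card_subtype]
    exact Fintype.card_congr (Equiv.subtypeEquivRight fun _ => Iff.rfl)
  have e2 : Nat.card D = (univ.filter fun g : G => g ∈ D).card := by
    rw [Nat.card_eq_fintype_card, ← Fintype.card_subtype]
  have e3 : ((univ.filter fun g : G => g ∈ D).filter fun g => g ∈ S).card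
      = ((univ.filter fun g : G => g ∈ D).filter fun g => ¬ g ∈ S).card := by
    refine Finset.card_equiv (Equiv.mulLeft d0) fun g => ?_
    simp only [Finset.mem_filter, Finset.mem_univ, true_and, Equiv.coe_mulLeft]
    constructor
    · rintro ⟨hg, hgS⟩
      exact ⟨mul_mem hd0 hg, fun hc => hd0S ((Subgroup.mul_mem_cancel_right S hgS).mp hc)⟩
    · rintro ⟨hg, hgS⟩
      refine ⟨(Subgroup.mul_mem_cancel_left D hd0).mp hg, by_contra fun hc => hgS ?_⟩
      exact half_mul_mem hle h (hD hd0) (hD ((Subgroup.mul_mem_cancel_left D hd0).mp hg)) hd0S hc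
  rw [e1, e2, ← Finset.card_filter_add_card_filter_not (s := univ.filter fun g : G => g ∈ D)
    (fun g => g ∈ S), ← e3, two_mul]

/-- Every point off a line has stabiliser of index 2 or 3. -/
def HalfOrThird (G Ω : Type*) [Group G] [MulAction G Ω] [Fintype G] [Fintype Ω]
    [DecidableEq Ω] : Prop :=
  ∀ a b : Ω, a ≠ b → ∀ x : Ω, x ∉ LF G a b →
    2 * Nat.card (PX G a b x) = Nat.card (PS G a b) ∨
      3 * Nat.card (PX G a b x) = Nat.card (PS G a b)

theorem natCard_PS_eq (h2 : IsTwoTrans G Ω) {a b c d : Ω} (hab : a ≠ b) (hcd : c ≠ d) :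
    Nat.card (PS G a b) = Nat.card (PS G c d) := by
  rw [natCard_PS, natCard_PS, card_PF h2 hab hcd]

theorem ne_of_not_mem_LF {a b γ : Ω} (hγ : γ ∉ LF G a b) : a ≠ γ :=
  fun e => hγ (e ▸ left_mem_LF a b)

/-- The core step: an element of `K_δ` off `K_γ` moves `γ` along the line through `a` and `γ`. -/
theorem smul_mem_LF (h2 : IsTwoTrans G Ω) (hK : HalfOrThird G Ω) {a b γ δ : Ω} (hab : a ≠ b)
    (hγ : γ ∉ LF G a b) (hδ : δ ∉ LF G a b)
    (gγ : 2 * Nat.card (PX G a b γ) = Nat.card (PS G a b))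
    (gδ : 2 * Nat.card (PX G a b δ) = Nat.card (PS G a b))
    {d0 : G} (hd0 : d0 ∈ PX G a b γ) (hd0δ : d0 • δ ≠ δ)
    {a0 : G} (ha0 : a0 ∈ PX G a b δ) (ha0γ : a0 ∉ PX G a b γ) :
    a0 • γ ∈ LF G a γ := by
  classical
  have haγ : a ≠ γ := ne_of_not_mem_LF hγ
  have haδ : a ≠ δ := ne_of_not_mem_LF hδ
  have hδL : δ ∉ LF G a γ := fun hc =>
    hd0δ (mem_LF.mp hc d0 (mem_PF.mpr ⟨(mem_PX.mp hd0).1.1, (mem_PX.mp hd0).2⟩))
  have hDle : PX G a b γ ≤ PS G a γ := fun g hg =>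
    mem_PS.mpr ⟨(mem_PX.mp hg).1.1, (mem_PX.mp hg).2⟩
  have hDhalf : 2 * Nat.card (PX G a b γ) = Nat.card (PS G a γ) := by
    rw [gγ, natCard_PS_eq h2 hab haγ]
  have hEle : PX G a b δ ≤ PS G a δ := fun g hg =>
    mem_PS.mpr ⟨(mem_PX.mp hg).1.1, (mem_PX.mp hg).2⟩
  have hEhalf : 2 * Nat.card (PX G a b δ) = Nat.card (PS G a δ) := by
    rw [gδ, natCard_PS_eq h2 hab haδ]
  have hquart : 2 * Nat.card (PX G a b γ ⊓ PX G a b δ : Subgroup G) = Nat.card (PX G a b γ) :=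
    half_inf (T := PS G a b) inf_le_left gδ inf_le_left hd0 fun hc => hd0δ (mem_PX.mp hc).2
  -- an element fixing `a, γ, δ` but not `b`
  obtain ⟨b0, hb0, hb0b⟩ : ∃ b0 ∈ PX G a γ δ, b0 • b ≠ b := by
    by_contra hc
    push Not at hc
    have heq : PX G a γ δ = PX G a b γ ⊓ PX G a b δ := by
      refine le_antisymm (fun g hg => ?_) fun g hg => ?_
      · have hgb := hc g hg
        have h' := mem_PX.mp hg
        exact Subgroup.mem_inf.mpr
          ⟨mem_PX.mpr ⟨⟨h'.1.1, hgb⟩, h'.1.2⟩, mem_PX.mpr ⟨⟨h'.1.1, hgb⟩, h'.2⟩⟩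
      · obtain ⟨h1, h1'⟩ := Subgroup.mem_inf.mp hg
        exact mem_PX.mpr ⟨⟨(mem_PX.mp h1).1.1, (mem_PX.mp h1).2⟩, (mem_PX.mp h1').2⟩
    have h23 := hK a γ haγ δ hδL
    rw [← natCard_PS_eq h2 hab haγ, heq] at h23
    have hpos : 0 < Nat.card (PX G a b γ ⊓ PX G a b δ : Subgroup G) := Nat.card_pos
    omega
  obtain ⟨⟨hb0a, hb0γ⟩, hb0δ⟩ := mem_PX.mp hb0
  have hb0K' : b0 ∈ PS G a γ := mem_PS.mpr ⟨hb0a, hb0γ⟩
  have hb0D : b0 ∉ PX G a b γ := fun hc => hb0b (mem_PX.mp hc).1.2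
  have hb0T : b0 ∈ PS G a δ := mem_PS.mpr ⟨hb0a, hb0δ⟩
  have ha0K : a0 ∈ PS G a b := (Subgroup.mem_inf.mp ha0).1
  -- the commutator lies in `D`
  have hconj : b0⁻¹ * a0⁻¹ * b0 ∈ PX G a b δ := by
    simpa using half_conj_mem hEle hEhalf (inv_mem hb0T) (inv_mem ha0)
  have hconjD : b0⁻¹ * a0⁻¹ * b0 ∉ PX G a b γ := by
    intro hc
    apply ha0γ
    have h3 := half_conj_mem hDle hDhalf hb0K' hc
    simpa [mul_assoc] using h3
  have hcomm : b0⁻¹ * a0⁻¹ * b0 * a0 ∈ PX G a b γ :=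
    half_mul_mem (T := PS G a b) inf_le_left gγ (Subgroup.mem_inf.mp hconj).1 ha0K hconjD ha0γ
  -- `a0` normalises `PS a γ`
  have hDconj : ∀ d ∈ PX G a b γ, a0⁻¹ * d * a0 ∈ PX G a b γ := fun d hd => by
    have h6 := half_conj_mem (T := PS G a b) inf_le_left gγ (inv_mem ha0K) hd
    rwa [inv_inv] at h6
  have hnorm : ∀ k ∈ PS G a γ, a0⁻¹ * k * a0 ∈ PS G a γ := by
    intro k hk
    by_cases hkD : k ∈ PX G a b γ
    · exact hDle (hDconj k hkD)
    · have hd : b0⁻¹ * k ∈ PX G a b γ :=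
        half_mul_mem hDle hDhalf (inv_mem hb0K') hk (fun hc => hb0D (inv_mem_iff.mp hc)) hkD
      have e : a0⁻¹ * k * a0
          = b0 * (b0⁻¹ * a0⁻¹ * b0 * a0) * (a0⁻¹ * (b0⁻¹ * k) * a0) := by group
      rw [e]
      exact mul_mem (mul_mem hb0K' (hDle hcomm)) (hDle (hDconj _ hd))
  rw [mem_LF]
  intro k hk
  have h4 := (mem_PS.mp (hnorm k (mem_PS.mpr (mem_PF.mp hk)))).2
  rwa [mul_smul, mul_smul, inv_smul_eq_iff] at h4

/-- The triangle lemma. -/
theorem triangle (h2 : IsTwoTrans G Ω) (hK : HalfOrThird G Ω) {a b γ δ : Ω} (hab : a ≠ b)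
    (hγ : γ ∉ LF G a b) (hδ : δ ∉ LF G a b)
    (gγ : 2 * Nat.card (PX G a b γ) = Nat.card (PS G a b))
    (gδ : 2 * Nat.card (PX G a b δ) = Nat.card (PS G a b))
    {d : G} (hd : d ∈ PX G a b γ) : d • δ = δ := by
  classical
  by_contra hdδ
  obtain ⟨a0, ha0, ha0γ⟩ : ∃ a0 ∈ PX G a b δ, a0 ∉ PX G a b γ := by
    by_contra hc
    push Not at hc
    have e : PX G a b δ = PX G a b γ :=
      Subgroup.eq_of_le_of_card_ge hc (by omega)
    exact hdδ (mem_PX.mp (e ▸ hd)).2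
  have haγ : a ≠ γ := ne_of_not_mem_LF hγ
  have hγ' : γ ∉ LF G b a := by rwa [LF_comm]
  have hbγ : b ≠ γ := ne_of_not_mem_LF hγ'
  have m1 := smul_mem_LF h2 hK hab hγ hδ gγ gδ hd hdδ ha0 ha0γ
  have m2 := smul_mem_LF h2 hK hab.symm hγ' (by rwa [LF_comm])
    (by rwa [← PX_comm, ← PS_comm]) (by rwa [← PX_comm, ← PS_comm])
    (d0 := d) (by rwa [← PX_comm]) hdδ
    (a0 := a0) (by rwa [← PX_comm]) (by rwa [← PX_comm])
  have hne : γ ≠ a0 • γ := fun e => ha0γ (mem_PX.mpr ⟨(mem_PX.mp ha0).1, e.symm⟩)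
  have e1 := PF_eq_of_mem_LF h2 haγ hne (right_mem_LF a γ) m1
  have e2 := PF_eq_of_mem_LF h2 hbγ hne (right_mem_LF b γ) m2
  have hle : PS G a γ ≤ PX G a b γ := by
    intro g hg
    have hgF : g ∈ PF (G := G) a γ := mem_PF.mpr (mem_PS.mp hg)
    rw [← e1, e2] at hgF
    exact mem_PX.mpr ⟨⟨(mem_PS.mp hg).1, (mem_PF.mp hgF).1⟩, (mem_PS.mp hg).2⟩
  have h5 := Subgroup.card_le_of_le hle
  rw [← natCard_PS_eq h2 hab haγ] at h5
  have hpos : 0 < Nat.card (PX G a b γ) := Nat.card_pos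
  omega

end Cfsg.Agent.DerangeBound
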